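import Cfsg.Agent.H82.PrincipalBlock
import Cfsg.Agent.BlockBasic.Roots
import Cfsg.Agent.CharBasic.Complete
import Cfsg.Agent.CharBasic.Equivalence
import Mathlib.GroupTheory.QuotientGroup.Basic

/-!
The sums over `N`-orbits (under conjugation) act as scalars on a representation of `G` whose
restriction to `N` is irreducible. If that restriction belongs to the principal block and
`G = N C_G(P)`, the scalars modulo `M` are the orbit sizes up to a linear character of `G/N`.
-/

set_option linter.unusedSectionVars false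
set_option linter.style.haveILetI false

namespace Cfsg.Agent.H25.PrincipalExtension

open Finset MonoidAlgebra Module

universe u

variable {G : Type u} [Group G] [Fintype G] [DecidableEq G] (N : Subgroup G) [N.Normal]
  [Fintype N]

/-- The orbit of `g` under conjugation by `N`. -/
def nOrbit (g : G) : Finset G := univ.image fun n : N => (n : G) * g * (n : G)⁻¹

omit [Fintype G] [N.Normal] in
theorem mem_nOrbit {g a : G} : a ∈ nOrbit N g ↔ ∃ n ∈ N, n * g * n⁻¹ = a := by
  simp [nOrbit]

omit [Fintype G] in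
theorem mk_of_mem_nOrbit {g a : G} (h : a ∈ nOrbit N g) : (a : G ⧸ N) = g := by
  obtain ⟨n, hn, rfl⟩ := (mem_nOrbit N).1 h
  simp [(QuotientGroup.eq_one_iff n).2 hn]

omit [Fintype G] [N.Normal] in
theorem nOrbit_eq_of_mem {g a : G} (h : a ∈ nOrbit N g) : nOrbit N a = nOrbit N g := by
  obtain ⟨m, hm, rfl⟩ := (mem_nOrbit N).1 h
  ext x
  constructor
  · intro hx
    obtain ⟨n, hn, rfl⟩ := (mem_nOrbit N).1 hx
    exact (mem_nOrbit N).2 ⟨n * m, mul_mem hn hm, by group⟩
  · intro hx
    obtain ⟨n, hn, rfl⟩ := (mem_nOrbit N).1 hx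
    exact (mem_nOrbit N).2 ⟨n * m⁻¹, mul_mem hn (inv_mem hm), by group⟩

omit [Fintype G] [N.Normal] in
theorem self_mem_nOrbit (g : G) : g ∈ nOrbit N g :=
  (mem_nOrbit N).2 ⟨1, one_mem N, by simp⟩

omit [Fintype G] [N.Normal] in
/-- An element centralising a Sylow `p`-subgroup of `N` has an orbit of size prime to `p`. -/
theorem not_dvd_card_nOrbit {p : ℕ} [hp : Fact p.Prime] (P : Sylow p N) {c : G}
    (hc : ∀ x ∈ (P : Subgroup N), (x : G) * c = c * x) : ¬ p ∣ (nOrbit N c).card := by
  classical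
  set K : Subgroup N := (Subgroup.centralizer ({c} : Set G)).subgroupOf N with hK
  have hPK : (P : Subgroup N) ≤ K := fun x hx => by
    rw [hK, Subgroup.mem_subgroupOf, Subgroup.mem_centralizer_singleton_iff]
    exact hc x hx
  have hcard : (nOrbit N c).card = K.index := by
    rw [Subgroup.index, nOrbit, ← Nat.card_eq_finsetCard]
    refine Nat.card_congr (Equiv.ofBijective
      (fun q : N ⧸ K => (⟨Quotient.liftOn' q (fun n : N => (n : G) * c * (n : G)⁻¹)
        (fun a b hab => ?_), ?_⟩ : {x // x ∈ univ.image fun n : N => (n : G) * c * (n : G)⁻¹}))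
      ⟨?_, ?_⟩).symm
    · rw [QuotientGroup.leftRel_apply, hK, Subgroup.mem_subgroupOf,
        Subgroup.mem_centralizer_singleton_iff, Subgroup.coe_mul, Subgroup.coe_inv] at hab
      calc (a : G) * c * (a : G)⁻¹ = (a : G) * (c * ((a : G)⁻¹ * b)) * (b : G)⁻¹ := by group
        _ = (a : G) * (((a : G)⁻¹ * b) * c) * (b : G)⁻¹ := by rw [hab]
        _ = (b : G) * c * (b : G)⁻¹ := by group
    · induction q using QuotientGroup.induction_on with
      | H n => exact mem_image.2 ⟨n, mem_univ _, rfl⟩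
    · intro a b hab
      induction a using QuotientGroup.induction_on with
      | H x => induction b using QuotientGroup.induction_on with
        | H y =>
          have h : (x : G) * c * (x : G)⁻¹ = (y : G) * c * (y : G)⁻¹ := congrArg Subtype.val hab
          apply QuotientGroup.eq.2
          rw [hK, Subgroup.mem_subgroupOf, Subgroup.mem_centralizer_singleton_iff,
            Subgroup.coe_mul, Subgroup.coe_inv]
          calc (x : G)⁻¹ * y * c = (x : G)⁻¹ * ((y : G) * c * (y : G)⁻¹) * y := by group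
            _ = c * ((x : G)⁻¹ * y) := by rw [← h]; group
    · rintro ⟨a, ha⟩
      obtain ⟨n, -, rfl⟩ := mem_image.1 ha
      exact ⟨(n : N ⧸ K), rfl⟩
  rw [hcard]
  intro hd
  exact P.not_dvd_index (hd.trans (Subgroup.index_dvd_of_le hPK))

/-- The sum of the orbit of `g` in the monoid algebra. -/
noncomputable def orbitSum (g : G) : MonoidAlgebra ℕ G := ∑ a ∈ nOrbit N g, single a 1

/-- Invariance under conjugation by `N`. -/
def Inv (z : MonoidAlgebra ℕ G) : Prop := ∀ n ∈ N, Commute (single n 1) z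

omit [Fintype G] [N.Normal] in
theorem inv_orbitSum (g : G) : Inv N (orbitSum N g) := by
  intro m hm
  rw [Commute, SemiconjBy, orbitSum, Finset.mul_sum, Finset.sum_mul]
  refine Finset.sum_bij (fun a _ => m * a * m⁻¹) ?_ ?_ ?_ ?_
  · intro a ha
    obtain ⟨n, hn, rfl⟩ := (mem_nOrbit N).1 ha
    exact (mem_nOrbit N).2 ⟨m * n, mul_mem hm hn, by group⟩
  · intro a _ b _ h
    exact mul_left_cancel (mul_right_cancel h)
  · intro b hb
    obtain ⟨n, hn, rfl⟩ := (mem_nOrbit N).1 hb
    exact ⟨m⁻¹ * (n * g * n⁻¹) * m,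
      (mem_nOrbit N).2 ⟨m⁻¹ * n, mul_mem (inv_mem hm) hn, by group⟩, by group⟩
  · intro a _
    simp [single_mul_single]

/-- The sum of the coefficients. -/
noncomputable def aug : MonoidAlgebra ℕ G →ₐ[ℕ] ℕ := MonoidAlgebra.lift ℕ ℕ G 1

/-- The image in the monoid algebra of `G/N`. -/
noncomputable def proj : MonoidAlgebra ℕ G →ₐ[ℕ] MonoidAlgebra ℕ (G ⧸ N) :=
  MonoidAlgebra.lift ℕ _ G ((MonoidAlgebra.of ℕ (G ⧸ N)).comp (QuotientGroup.mk' N))

/-- All terms of `z` lie in the coset `q`. -/
def InCoset (z : MonoidAlgebra ℕ G) (q : G ⧸ N) : Prop :=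
  proj N z = aug z • single q 1

omit [Fintype G] [N.Normal] in
theorem aug_orbitSum (g : G) : aug (orbitSum N g) = (nOrbit N g).card := by
  simp [aug, orbitSum, MonoidAlgebra.lift_single]

omit [Fintype G] in
theorem inCoset_orbitSum (g : G) : InCoset N (orbitSum N g) (g : G ⧸ N) := by
  rw [InCoset, aug_orbitSum, orbitSum, map_sum]
  rw [Finset.sum_congr rfl (g := fun _ => (single (g : G ⧸ N) 1 : MonoidAlgebra ℕ (G ⧸ N))),
    Finset.sum_const]
  intro a ha
  simp [proj, MonoidAlgebra.lift_single, mk_of_mem_nOrbit N ha]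

omit [Fintype G] [DecidableEq G] [Fintype N] in
theorem InCoset.mul {z w : MonoidAlgebra ℕ G} {q r : G ⧸ N} (hz : InCoset N z q)
    (hw : InCoset N w r) : InCoset N (z * w) (q * r) := by
  rw [InCoset, map_mul, map_mul, hz, hw, smul_mul_smul_comm, single_mul_single, mul_one]

omit [Fintype G] [DecidableEq G] [Fintype N] in
theorem InCoset.pow {z : MonoidAlgebra ℕ G} {q : G ⧸ N} (hz : InCoset N z q) (n : ℕ) :
    InCoset N (z ^ n) (q ^ n) := by
  induction n with
  | zero =>
    rw [InCoset, pow_zero, pow_zero, map_one, map_one, one_smul, MonoidAlgebra.one_def]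
  | succ n ih => rw [pow_succ, pow_succ]; exact ih.mul N hz

omit [DecidableEq G] in
theorem eq_sum_single (z : MonoidAlgebra ℕ G) : z = ∑ g : G, single g (z.coeff g) := by
  apply MonoidAlgebra.ext
  ext a
  classical
  simp [MonoidAlgebra.coeff_sum]

omit [DecidableEq G] [Fintype N] in
theorem aug_eq_sum (z : MonoidAlgebra ℕ G) : aug z = ∑ g : G, z.coeff g := by
  conv_lhs => rw [eq_sum_single z]
  simp [aug, MonoidAlgebra.lift_single]

omit [DecidableEq G] [Fintype N] in
theorem coeff_eq_zero_of_inCoset {z : MonoidAlgebra ℕ G} {q : G ⧸ N} (hz : InCoset N z q)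
    {g : G} (hg : (g : G ⧸ N) ≠ q) : z.coeff g = 0 := by
  classical
  have h : (proj N z).coeff (g : G ⧸ N) = 0 := by
    rw [hz]
    simp [Ne.symm hg]
  rw [eq_sum_single z, map_sum, MonoidAlgebra.coeff_sum, Finsupp.finsetSum_apply] at h
  have := (Finset.sum_eq_zero_iff).1 h g (mem_univ g)
  simpa [proj, MonoidAlgebra.lift_single, Finsupp.single_apply] using this

omit [Fintype G] [DecidableEq G] [Fintype N] in
theorem coeff_conj_of_inv {z : MonoidAlgebra ℕ G} (hz : Inv N z) {n : G} (hn : n ∈ N) (g : G) :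
    z.coeff (n * g * n⁻¹) = z.coeff g := by
  have h := congrArg (fun w => w.coeff (n * g)) (hz n hn).eq
  rw [coeff_single_mul_eq_mul_coeff (m₂ := g) (H := fun _ _ => mul_right_inj n),
    coeff_mul_single_eq_coeff_mul (m₂ := n * g * n⁻¹)
      (H := fun _ _ => eq_mul_inv_iff_mul_eq.symm)] at h
  simpa using h.symm

section Omega

variable {n : ℕ} (ρ : Representation ℂ G (Fin n → ℂ)) {p : ℕ} {M : Ideal Cfsg.AlgInt}

/-- The linear extension of the representation. -/
noncomputable def act : MonoidAlgebra ℕ G →ₐ[ℕ] Module.End ℂ (Fin n → ℂ) :=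
  MonoidAlgebra.lift ℕ (Module.End ℂ (Fin n → ℂ)) G ρ

/-- The scalar by which `z` acts. -/
noncomputable def omega (z : MonoidAlgebra ℕ G) : ℂ :=
  (∑ g : G, (z.coeff g : ℂ) * ρ.character g) / ρ.character 1

omit [DecidableEq G] in
theorem trace_act (z : MonoidAlgebra ℕ G) :
    LinearMap.trace ℂ _ (act ρ z) = ∑ g : G, (z.coeff g : ℂ) * ρ.character g := by
  conv_lhs => rw [eq_sum_single z]
  rw [map_sum, map_sum]
  refine Finset.sum_congr rfl fun g _ => ?_
  rw [act, MonoidAlgebra.lift_single, ← Nat.cast_smul_eq_nsmul ℂ, map_smul, smul_eq_mul]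
  rfl

/-- The restriction to `N`. -/
abbrev resN : Representation ℂ N (Fin n → ℂ) := MonoidHom.comp ρ N.subtype

variable [hirr : (resN N ρ).IsIrreducible]

omit [DecidableEq G] [Fintype N] [N.Normal] in
include hirr in
theorem act_eq {z : MonoidAlgebra ℕ G} (hz : Inv N z) :
    act ρ z = omega ρ z • LinearMap.id := by
  obtain ⟨c, hc⟩ := CharBasic.schur_scalar (resN N ρ)
    (act ρ z) fun m => by
      have h := congrArg (act ρ) (hz m m.2).eq
      rw [map_mul, map_mul, act, MonoidAlgebra.lift_single, one_smul] at h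
      exact h.symm
  have hn : (Module.finrank ℂ (Fin n → ℂ) : ℂ) ≠ 0 := by
    exact_mod_cast (CharBasic.finrank_pos_of_isIrreducible
      (resN N ρ)).ne'
  have ho : omega ρ z = c := by
    rw [omega, ← trace_act, hc, map_smul, LinearMap.trace_id, Representation.char_one,
      smul_eq_mul, mul_div_assoc, div_self hn, mul_one]
  rw [ho, hc]

omit [DecidableEq G] [Fintype N] [N.Normal] in
include hirr in
theorem omega_mul {z w : MonoidAlgebra ℕ G} (hz : Inv N z) :
    omega ρ (z * w) = omega ρ z * omega ρ w := by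
  rw [omega, ← trace_act, map_mul, act_eq N ρ hz, smul_mul_assoc, map_smul, smul_eq_mul,
    ← Module.End.one_eq_id, one_mul, trace_act, mul_div_assoc]
  rfl

omit [DecidableEq G] [N.Normal] in
include hirr in
theorem omega_pow {z : MonoidAlgebra ℕ G} (hz : Inv N z) (m : ℕ) :
    omega ρ (z ^ m) = omega ρ z ^ m := by
  induction m with
  | zero =>
    have hn : ρ.character 1 ≠ 0 := by
      rw [Representation.char_one]
      exact_mod_cast (CharBasic.finrank_pos_of_isIrreducible
        (resN N ρ)).ne'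
    rw [pow_zero, pow_zero, omega, ← trace_act, map_one, Module.End.one_eq_id,
      LinearMap.trace_id, ← Representation.char_one ρ, div_self hn]
  | succ m ih => rw [pow_succ', pow_succ', omega_mul N ρ hz, ih]

omit [DecidableEq G] in
include hirr in
/-- Elements supported in `N`: the scalar is integral, and congruent to the augmentation. -/
theorem omega_of_inCoset_one (hM : Cfsg.IsPModular p M)
    (hB : ∀ x : N, Cfsg.MemLocalIdeal M (((Subgroup.centralizer ({x} : Set N)).index : ℂ) -
      Cfsg.centralChar (fun y : N => ρ.character y) x))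
    {z : MonoidAlgebra ℕ G} (hz : Inv N z) (h1 : InCoset N z 1) :
    IsIntegral ℤ (omega ρ z) ∧ Cfsg.MemLocalIdeal M (omega ρ z - (aug z : ℂ)) := by
  classical
  have hsupp : ∀ g : G, g ∉ N → z.coeff g = 0 := fun g hg =>
    coeff_eq_zero_of_inCoset N h1 fun h => hg ((QuotientGroup.eq_one_iff g).1 h)
  have hsum : ∀ f : G → ℂ, ∑ g : G, (z.coeff g : ℂ) * f g =
      ∑ y : N, (z.coeff (y : G) : ℂ) * f y := fun f => by
    rw [← Finset.sum_subtype (univ.filter (· ∈ N)) (by simp)
      (fun g => (z.coeff g : ℂ) * f g), Finset.sum_filter]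
    refine Finset.sum_congr rfl fun g _ => ?_
    by_cases hg : g ∈ N
    · rw [if_pos hg]
    · rw [if_neg hg, hsupp g hg, Nat.cast_zero, zero_mul]
  have hθ : Cfsg.IsIrrCharacter N (fun y : N => ρ.character y) := by
    have := CharBasic.isIrrCharacter_character (resN N ρ)
    exact this
  have hc : Cfsg.IsClassFunction N (fun y : N => (z.coeff (y : G) : ℂ)) := fun y x => by
    simp only [Subgroup.coe_mul, Subgroup.coe_inv, coeff_conj_of_inv N hz x.2 (y : G)]
  have ho : omega ρ z = (∑ y : N, (z.coeff (y : G) : ℂ) * ρ.character y) / ρ.character 1 := by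
    rw [omega, hsum]
  constructor
  · rw [ho]
    exact H83.omega_isIntegral hc (fun y => by
      simpa using (isIntegral_algebraMap (R := ℤ) (A := ℂ) (x := ((z.coeff (y : G) : ℕ) : ℤ))))
      hθ
  · have haug : (aug z : ℂ) = ∑ y : N, (z.coeff (y : G) : ℂ) := by
      rw [aug_eq_sum, Nat.cast_sum]
      simpa using hsum (fun _ => 1)
    rw [ho, haug, Finset.sum_div, ← Finset.sum_sub_distrib]
    have h := H82.memLocalIdeal_sum_normal hM (⊤ : Subgroup N)
      (f := fun y : N => (z.coeff (y : G) : ℂ) * ρ.character y / ρ.character 1 -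
        (z.coeff (y : G) : ℂ)) (fun y x => by
          have hclass := CharBasic.IsIrr.isClassFunction hθ y x
          simp only [] at hclass ⊢
          rw [hclass]
          simp only [Subgroup.coe_mul, Subgroup.coe_inv, coeff_conj_of_inv N hz x.2 (y : G)])
      (fun y => by
        have h' := BlockBasic.memLocalIdeal_mul hM
          (BlockBasic.memLocalRing_natCast hM (z.coeff (y : G)))
          (BlockBasic.memLocalIdeal_neg (hB y))
        convert h' using 1
        simp only [Cfsg.centralChar, Subgroup.coe_one]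
        ring)
    convert h using 2
    simp

omit [DecidableEq G] in
include hirr in
theorem omega_isIntegral (hM : Cfsg.IsPModular p M)
    (hB : ∀ x : N, Cfsg.MemLocalIdeal M (((Subgroup.centralizer ({x} : Set N)).index : ℂ) -
      Cfsg.centralChar (fun y : N => ρ.character y) x))
    {z : MonoidAlgebra ℕ G} (hz : Inv N z) {q : G ⧸ N} (hq : InCoset N z q) :
    IsIntegral ℤ (omega ρ z) := by
  refine IsIntegral.of_pow (orderOf_pos q) ?_
  rw [← omega_pow N ρ hz]
  exact (omega_of_inCoset_one N ρ hM hB (fun m hm => (hz m hm).pow_right _)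
    (by simpa [pow_orderOf_eq_one] using hq.pow N (orderOf q))).1

include hirr in
/-- The linear character of `G/N` that corrects the scalars. -/
theorem exists_twist [hp : Fact p.Prime] (hM : Cfsg.IsPModular p M)
    (hB : ∀ x : N, Cfsg.MemLocalIdeal M (((Subgroup.centralizer ({x} : Set N)).index : ℂ) -
      Cfsg.centralChar (fun y : N => ρ.character y) x))
    (P : Sylow p N)
    (hcov : ∀ q : G ⧸ N, ∃ c : G, (c : G ⧸ N) = q ∧
      ∀ x ∈ (P : Subgroup N), (x : G) * c = c * x) :
    ∃ lam : G →* Cfsg.AlgInt, (∀ x ∈ N, lam x = 1) ∧ ∀ g : G, Cfsg.MemLocalIdeal M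
      ((∑ a ∈ nOrbit N g, (lam a⁻¹ : ℂ) * ρ.character a) / ρ.character 1 -
        ((nOrbit N g).card : ℂ)) := by
  classical
  haveI := hM.2.1
  letI : Field (Cfsg.AlgInt ⧸ M) := Ideal.Quotient.field M
  let W : MonoidAlgebra ℕ G → Cfsg.AlgInt ⧸ M := fun z =>
    if h : IsIntegral ℤ (omega ρ z) then Ideal.Quotient.mk M ⟨omega ρ z, h⟩ else 0
  have hWint : ∀ z q, Inv N z → InCoset N z q → IsIntegral ℤ (omega ρ z) :=
    fun z q hz hq => omega_isIntegral N ρ hM hB hz hq
  have hW1 : ∀ z, Inv N z → InCoset N z 1 → W z = (aug z : Cfsg.AlgInt ⧸ M) := by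
    intro z hz hq
    simp only [W, dif_pos (hWint z 1 hz hq)]
    rw [← map_natCast (Ideal.Quotient.mk M), Ideal.Quotient.eq,
      ← BlockBasic.memLocalIdeal_coe_iff hM]
    simpa using (omega_of_inCoset_one N ρ hM hB hz hq).2
  have hWmul : ∀ z w q r, Inv N z → Inv N w → InCoset N z q → InCoset N w r →
      W (z * w) = W z * W w := by
    intro z w q r hz hw hq hr
    simp only [W, dif_pos (hWint z q hz hq), dif_pos (hWint w r hw hr),
      dif_pos (hWint (z * w) (q * r) (fun m hm => (hz m hm).mul_right (hw m hm)) (hq.mul N hr))]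
    rw [← map_mul]
    exact congrArg _ (Subtype.ext (omega_mul N ρ hz))
  have hWpow : ∀ z q, Inv N z → InCoset N z q → ∀ k : ℕ, W (z ^ k) = W z ^ k := by
    intro z q hz hq k
    simp only [W, dif_pos (hWint z q hz hq),
      dif_pos (hWint (z ^ k) (q ^ k) (fun m hm => (hz m hm).pow_right k) (hq.pow N k))]
    rw [← map_pow]
    exact congrArg _ (Subtype.ext (omega_pow N ρ hz k))
  let O : G → Cfsg.AlgInt ⧸ M := fun g => W (orbitSum N g)
  let s : G → Cfsg.AlgInt ⧸ M := fun g => ((nOrbit N g).card : Cfsg.AlgInt ⧸ M)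
  have hpowI : ∀ (d : G) (k : ℕ), Inv N (orbitSum N d ^ k) := fun d k m hm =>
    (inv_orbitSum N d m hm).pow_right k
  have hmulI : ∀ z w, Inv N z → Inv N w → Inv N (z * w) := fun z w hz hw m hm =>
    (hz m hm).mul_right (hw m hm)
  -- products of orbit sums landing in `N`
  have hprod : ∀ (c d : G) (k : ℕ), ((c : G ⧸ N) * (d : G ⧸ N) ^ k = 1) →
      O c * O d ^ k = s c * s d ^ k := by
    intro c d k hk
    have hq := (inCoset_orbitSum N c).mul N ((inCoset_orbitSum N d).pow N k)
    rw [hk] at hq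
    calc O c * O d ^ k = W (orbitSum N c * orbitSum N d ^ k) := by
          simp only [O]
          rw [hWmul _ _ _ _ (inv_orbitSum N c) (hpowI d k) (inCoset_orbitSum N c)
            ((inCoset_orbitSum N d).pow N k), hWpow _ _ (inv_orbitSum N d) (inCoset_orbitSum N d)]
      _ = s c * s d ^ k := by
          rw [hW1 _ (hmulI _ _ (inv_orbitSum N c) (hpowI d k)) hq]
          simp only [s, map_mul, map_pow, aug_orbitSum, Nat.cast_mul, Nat.cast_pow]
  choose c hc hcP using hcov
  have hs0 : ∀ q, s (c q) ≠ 0 := fun q h => by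
    replace h : ((nOrbit N (c q)).card : Cfsg.AlgInt ⧸ M) = 0 := h
    rw [← map_natCast (Ideal.Quotient.mk M), Ideal.Quotient.eq_zero_iff_mem,
      BlockBasic.natCast_mem_iff hM] at h
    exact not_dvd_card_nOrbit N P (hcP q) h
  let μ : G ⧸ N → Cfsg.AlgInt ⧸ M := fun q => O (c q) / s (c q)
  have hμpow : ∀ q, μ q ^ orderOf q = 1 := by
    intro q
    have hpos := orderOf_pos q
    have h := hprod (c q) (c q) (orderOf q - 1) (by
      rw [hc, ← pow_succ', Nat.sub_add_cancel hpos, pow_orderOf_eq_one])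
    rw [← pow_succ', ← pow_succ', Nat.sub_add_cancel hpos] at h
    rw [div_pow, h, div_self (pow_ne_zero _ (hs0 q))]
  have hμ0 : ∀ q, μ q ≠ 0 := fun q h => by
    have := hμpow q
    rw [h, zero_pow (orderOf_pos q).ne'] at this
    exact zero_ne_one this
  have horb : ∀ g : G, O g = s g * μ (g : G ⧸ N) := by
    intro g
    set q := (g : G ⧸ N) with hq
    have hpos := orderOf_pos q
    have h := hprod g (c q) (orderOf q - 1) (by
      rw [hc, ← hq, ← pow_succ', Nat.sub_add_cancel hpos, pow_orderOf_eq_one])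
    have hO : O (c q) = s (c q) * μ q := by
      simp only [μ, mul_div_cancel₀ _ (hs0 q)]
    rw [hO, mul_pow, ← mul_assoc, mul_comm (O g) (s (c q) ^ _), mul_assoc,
      mul_comm (s g) (s (c q) ^ _)] at h
    have h2 := mul_left_cancel₀ (pow_ne_zero _ (hs0 q)) h
    calc O g = O g * μ q ^ orderOf q := by rw [hμpow, mul_one]
      _ = O g * μ q ^ (orderOf q - 1) * μ q := by
          rw [mul_assoc, ← pow_succ, Nat.sub_add_cancel hpos]
      _ = s g * μ q := by rw [h2]
  -- `μ` is multiplicative
  have hμmul : ∀ q r, μ q * μ r = μ (q * r) := by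
    intro q r
    set e := c q * c r with he
    have heP : ∀ x ∈ (P : Subgroup N), (x : G) * e = e * x := fun x hx => by
      rw [he, ← mul_assoc, hcP q x hx, mul_assoc, hcP r x hx, mul_assoc]
    have hqe : (e : G ⧸ N) = q * r := by rw [he, QuotientGroup.mk_mul, hc, hc]
    set m := orderOf (q * r) with hm
    have hpos : 0 < m := orderOf_pos _
    have hone : InCoset N (orbitSum N (c q) * orbitSum N (c r) * orbitSum N e ^ (m - 1)) 1 := by
      have h' := ((inCoset_orbitSum N (c q)).mul N (inCoset_orbitSum N (c r))).mul N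
        ((inCoset_orbitSum N e).pow N (m - 1))
      rwa [hc, hc, hqe, ← pow_succ', Nat.sub_add_cancel hpos, hm, pow_orderOf_eq_one] at h'
    have h : O (c q) * O (c r) * O e ^ (m - 1) = s (c q) * s (c r) * s e ^ (m - 1) := by
      calc _ = W (orbitSum N (c q) * orbitSum N (c r) * orbitSum N e ^ (m - 1)) := by
            simp only [O]
            rw [hWmul _ _ _ _ (hmulI _ _ (inv_orbitSum N _) (inv_orbitSum N _)) (hpowI e _)
              ((inCoset_orbitSum N _).mul N (inCoset_orbitSum N _))
              ((inCoset_orbitSum N _).pow N _),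
              hWmul _ _ _ _ (inv_orbitSum N _) (inv_orbitSum N _) (inCoset_orbitSum N _)
                (inCoset_orbitSum N _), hWpow _ _ (inv_orbitSum N _) (inCoset_orbitSum N _)]
        _ = _ := by
            rw [hW1 _ (hmulI _ _ (hmulI _ _ (inv_orbitSum N _) (inv_orbitSum N _)) (hpowI e _)) hone]
            simp only [s, map_mul, map_pow, aug_orbitSum, Nat.cast_mul, Nat.cast_pow]
    have hse : s e ≠ 0 := fun h => by
      replace h : ((nOrbit N e).card : Cfsg.AlgInt ⧸ M) = 0 := h
      rw [← map_natCast (Ideal.Quotient.mk M), Ideal.Quotient.eq_zero_iff_mem,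
        BlockBasic.natCast_mem_iff hM] at h
      exact not_dvd_card_nOrbit N P heP h
    rw [horb (c q), horb (c r), horb e, hc, hc, hqe] at h
    have h2 : μ q * μ r * μ (q * r) ^ (m - 1) = 1 := by
      apply mul_left_cancel₀
        (mul_ne_zero (mul_ne_zero (hs0 q) (hs0 r)) (pow_ne_zero (m - 1) hse))
      rw [mul_one, mul_pow] at *
      linear_combination h
    calc μ q * μ r = μ q * μ r * μ (q * r) ^ m := by rw [hm, hμpow, mul_one]
      _ = μ q * μ r * μ (q * r) ^ (m - 1) * μ (q * r) := by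
          rw [mul_assoc (μ q * μ r), ← pow_succ, Nat.sub_add_cancel hpos]
      _ = μ (q * r) := by rw [h2, one_mul]
  -- lifting to roots of unity
  have hlift : ∀ q, ∃ ε : Cfsg.AlgInt, (∃ m : ℕ, ¬ p ∣ m ∧ ε ^ m = 1) ∧
      Ideal.Quotient.mk M ε = μ q := by
    intro q
    obtain ⟨a, ha⟩ := Ideal.Quotient.mk_surjective (μ q)
    obtain ⟨ε, hε, hεa⟩ := BlockBasic.exists_root_congr hM (a := a) (fun hmem =>
      hμ0 q (by rw [← ha, Ideal.Quotient.eq_zero_iff_mem.2 hmem]))
    exact ⟨ε, hε, by rw [← ha]; exact (Ideal.Quotient.eq.2 hεa).symm⟩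
  choose ε hεroot hεmu using hlift
  have huniq : ∀ q (x : Cfsg.AlgInt), (∃ m : ℕ, ¬ p ∣ m ∧ x ^ m = 1) →
      Ideal.Quotient.mk M x = μ q → x = ε q := by
    intro q x ⟨m, hm, hx⟩ hxm
    obtain ⟨m', hm', hε'⟩ := hεroot q
    exact BlockBasic.root_unique hM hm hm' hx hε' (Ideal.Quotient.eq.1 (hxm.trans (hεmu q).symm))
  have hμ1 : μ 1 = 1 := by simpa using hμpow 1
  have hε1 : ε 1 = 1 :=
    (huniq 1 1 ⟨1, hp.out.not_dvd_one, one_pow _⟩ (by rw [map_one, hμ1])).symm
  have hεmul : ∀ q r, ε (q * r) = ε q * ε r := by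
    intro q r
    obtain ⟨a, ha, hqa⟩ := hεroot q
    obtain ⟨b, hb, hrb⟩ := hεroot r
    refine (huniq (q * r) _ ⟨a * b, fun h => (hM.1.dvd_mul.1 h).elim ha hb, ?_⟩
      (by rw [map_mul, hεmu, hεmu, hμmul])).symm
    rw [mul_pow, pow_mul, hqa, one_pow, one_mul, mul_comm a, pow_mul, hrb, one_pow]
  let lam : G →* Cfsg.AlgInt :=
    { toFun := fun g => ε (g : G ⧸ N)
      map_one' := by simpa using hε1
      map_mul' := fun a b => by rw [QuotientGroup.mk_mul, hεmul] }
  refine ⟨lam, fun x hx => ?_, fun g => ?_⟩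
  · show ε (x : G ⧸ N) = 1
    rw [(QuotientGroup.eq_one_iff x).2 hx, hε1]
  · have hω : omega ρ (orbitSum N g) = (∑ a ∈ nOrbit N g, ρ.character a) / ρ.character 1 := by
      rw [omega, ← trace_act, orbitSum, map_sum, map_sum]
      congr 1
      refine Finset.sum_congr rfl fun a _ => ?_
      rw [act, MonoidAlgebra.lift_single, one_smul]
      rfl
    have hkey : Cfsg.MemLocalIdeal M ((ε ((g : G ⧸ N)⁻¹) : ℂ) * omega ρ (orbitSum N g) -
        ((nOrbit N g).card : ℂ)) := by
      have h : Ideal.Quotient.mk M (ε ((g : G ⧸ N)⁻¹) *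
          ⟨omega ρ (orbitSum N g), omega_isIntegral N ρ hM hB (inv_orbitSum N g)
            (inCoset_orbitSum N g)⟩) = ((nOrbit N g).card : Cfsg.AlgInt ⧸ M) := by
        rw [map_mul, hεmu]
        have hOg : O g = Ideal.Quotient.mk M ⟨omega ρ (orbitSum N g), omega_isIntegral N ρ hM hB
            (inv_orbitSum N g) (inCoset_orbitSum N g)⟩ := by
          simp only [O, W, dif_pos (hWint _ _ (inv_orbitSum N g) (inCoset_orbitSum N g))]
        rw [← hOg]
        show μ ((g : G ⧸ N)⁻¹) * O g = s g
        rw [horb, mul_left_comm, hμmul, inv_mul_cancel, hμ1, mul_one]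
      rw [← map_natCast (Ideal.Quotient.mk M), Ideal.Quotient.eq,
        ← BlockBasic.memLocalIdeal_coe_iff hM] at h
      simpa using h
    convert hkey using 2
    rw [hω, mul_div_assoc', Finset.mul_sum]
    congr 1
    refine Finset.sum_congr rfl fun a ha => ?_
    have : (a⁻¹ : G) = ((a : G)⁻¹ : G) := rfl
    show (ε ((a⁻¹ : G) : G ⧸ N) : ℂ) * _ = _
    rw [QuotientGroup.mk_inv, mk_of_mem_nOrbit N ha]

end Omega

end Cfsg.Agent.H25.PrincipalExtension
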